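import Mathlib.Data.Set.Finite.Basic
import Mathlib.Data.Fintype.EquivFin
import Mathlib.Tactic

/-!
# THEOREM DIG, the digraph (helper900 #23994 (2)-(4))

`R` is a relation on the finite type `ι`; every nonempty `s ≠ univ` contains some `j` with no `i ∈ s`, `i ≠ j`, `R i j`
(`Free R`). If every `j` has a predecessor `i ≠ j`, then the predecessor is unique (`pre_unique`) and every permutation
of `ι` which preserves `R` and fixes a point is `1` (`eq_one_of_fix`).
-/

set_option autoImplicit false

namespace Cfsg.Agent.Omega.Dig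

variable {ι : Type*}

/-- Every nonempty proper subset contains a vertex without predecessors inside it. -/
def Free (R : ι → ι → Prop) : Prop :=
  ∀ s : Set ι, s ≠ Set.univ → s.Nonempty → ∃ j ∈ s, ∀ i ∈ s, i ≠ j → ¬ R i j

variable {R : ι → ι → Prop}

/-- A nonempty set closed under a choice of predecessors is everything. -/
theorem Free.eq_univ (h : Free R) {p : ι → ι} (hp : ∀ j, p j ≠ j ∧ R (p j) j) {s : Set ι} (hs : s.Nonempty)
    (hc : ∀ j ∈ s, p j ∈ s) : s = Set.univ := by
  by_contra hne
  obtain ⟨j, hj, h1⟩ := h s hne hs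
  exact h1 (p j) (hc j hj) (hp j).1 (hp j).2

theorem Free.surjective (h : Free R) {p : ι → ι} (hp : ∀ j, p j ≠ j ∧ R (p j) j) : Function.Surjective p := by
  rcases isEmpty_or_nonempty ι with he | he
  · exact fun j => (he.false j).elim
  · have h1 : Set.range p = Set.univ := by
      refine h.eq_univ hp (Set.range_nonempty p) ?_
      rintro _ ⟨j, rfl⟩
      exact ⟨p j, rfl⟩
    exact Set.range_eq_univ.1 h1

theorem Free.injective [Finite ι] (h : Free R) {p : ι → ι} (hp : ∀ j, p j ≠ j ∧ R (p j) j) :
    Function.Injective p := Finite.injective_iff_surjective.2 (h.surjective hp)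

/-- The predecessor is unique. -/
theorem Free.pre_unique [Finite ι] (h : Free R) {p : ι → ι} (hp : ∀ j, p j ≠ j ∧ R (p j) j) {i j : ι} (hij : i ≠ j)
    (hR : R i j) : i = p j := by
  classical
  by_contra hne
  obtain ⟨x, hx⟩ := h.surjective hp i
  have hxj : x ≠ j := by
    rintro rfl
    exact hne hx.symm
  have hp' : ∀ l, Function.update p j i l ≠ l ∧ R (Function.update p j i l) l := by
    intro l
    rcases eq_or_ne l j with rfl | hl
    · rw [Function.update_self]
      exact ⟨hij, hR⟩
    · rw [Function.update_of_ne hl]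
      exact hp l
  have h1 := h.injective hp' (a₁ := x) (a₂ := j) (by rw [Function.update_of_ne hxj, Function.update_self, hx])
  exact hxj h1

/-- A permutation which preserves `R` and fixes a point is trivial. -/
theorem Free.eq_one_of_fix [Finite ι] (h : Free R) (hpre : ∀ j, ∃ i, i ≠ j ∧ R i j) {π : Equiv.Perm ι}
    (hπ : ∀ i j, R i j → R (π i) (π j)) {i : ι} (hi : π i = i) : π = 1 := by
  choose p hp using hpre
  have key : ∀ j, p (π j) = π (p j) := fun j =>
    (h.pre_unique hp (fun e => (hp j).1 (π.injective e)) (hπ _ _ (hp j).2)).symm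
  have h1 : {j | π j = j} = Set.univ := by
    refine h.eq_univ hp ⟨i, hi⟩ fun j hj => ?_
    change π (p j) = p j
    rw [← key, show π j = j from hj]
  ext j
  have : j ∈ {j | π j = j} := by rw [h1]; trivial
  simpa using this

end Cfsg.Agent.Omega.Dig
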