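import Cfsg.Agent.Omega.EK3.Lever
import Cfsg.Agent.Omega.EK3.Rank
import Cfsg.Agent.Omega.Dig.Graph

/-!
# THEOREM DIG (helper900 #23994): (E) is impossible for `≥ 3` blocks, unless the blocks are permuted regularly

`Dig D O ZJ Y N` : the blocks `i : ι`, `D ≤ Y i` fixes `ZJ`, `O = O₂(D)`, `N i = ⟨r_i^{Y i}⟩ ⊴ Y i`; for every nonempty
`s ≠ univ` the group `E s = ⟨ZJ^{⟨Y i : i ∈ s⟩}⟩` is elementary abelian and lies in `O`; `(NO)` for `O` on `N i`; `qp`: a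
normal subgroup of `Y i` whose intersection with `O` moves `N i` covers `Y i / D`; the `Y i` normalise no nontrivial
subgroup of `O` together.

* `Mov O E N` : some minimal offender of `E` in `O` moves `N`;
* `Dig.exists_mov` (b), `Dig.mov_mono` (m), `Dig.le_normalizer` (c);
* `Dig.eq_one_of_fix` : **a symmetry of the configuration which fixes a block fixes all blocks** (if the symmetries are
  transitive and there are at least three blocks).
-/

set_option autoImplicit false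
set_option linter.unusedSectionVars false
set_option linter.dupNamespace false

namespace Cfsg.Agent.Omega.Dig

open Subgroup Cfsg Cfsg.Agent.ZN Cfsg.Agent.ZN.ChoiceBase
open Cfsg.Agent.Omega.NO3S.EThree
open Cfsg.Agent.Omega.EK3.Lever (Dt offd_of_AA offd_cj minOff_cj)
open Cfsg.Agent.Omega.EK3.Rank (NoOn)
open scoped commutatorElement

universe u

variable {G : Type u} [Group G] {ι : Type*}

/-- `E s = ⟨ZJ^{⟨Y i : i ∈ s⟩}⟩` -/
def EE (Y : ι → Subgroup G) (ZJ : Subgroup G) (s : Set ι) : Subgroup G :=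
  ⨆ y : (⨆ i : s, Y (i : ι) : Subgroup G), cj (y : G) ZJ

/-- Some minimal offender of `E` in `O` moves `N`. -/
def Mov (O E N : Subgroup G) : Prop :=
  ∃ F ≤ O, IsElementaryAbelian 2 F ∧ MinOff E F ∧ ¬ F ≤ centralizer (N : Set G)

structure Dig (D O ZJ : Subgroup G) (Y N : ι → Subgroup G) : Prop where
  OD : O ≤ D
  DY : ∀ i, D ≤ Y i
  OZ : O ≤ centralizer (ZJ : Set G)
  ne : ZJ ≠ ⊥
  NZ : ∀ i, N i ≤ ⨆ y : (Y i : Subgroup G), cj (y : G) ZJ
  YN : ∀ i, Y i ≤ normalizer (N i : Set G)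
  YQ : ∀ i, Y i ≤ normalizer ((O ⊓ centralizer (N i : Set G) : Subgroup G) : Set G)
  no : ∀ i, NoOn O (N i)
  el : ∀ s : Set ι, s ≠ Set.univ → s.Nonempty → IsElementaryAbelian 2 (EE Y ZJ s) ∧ EE Y ZJ s ≤ O
  qp : ∀ i, ∀ K : Subgroup G, K ≤ Y i → Y i ≤ normalizer (K : Set G) → ¬ K ⊓ O ≤ centralizer (N i : Set G) →
    Y i ≤ K ⊔ D
  nl : ∀ R : Subgroup G, R ≤ O → (∀ i, Y i ≤ normalizer (R : Set G)) → R = ⊥

/-- A symmetry of the configuration. -/
def Sym (O ZJ : Subgroup G) (Y N : ι → Subgroup G) (π : Equiv.Perm ι) : Prop :=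
  ∃ g : G, cj g O = O ∧ cj g ZJ = ZJ ∧ ∀ i, cj g (Y i) = Y (π i) ∧ cj g (N i) = N (π i)

variable {D O ZJ : Subgroup G} {Y N : ι → Subgroup G}

theorem Y_le_iSup {s : Set ι} {i : ι} (hi : i ∈ s) : Y i ≤ ⨆ i : s, Y (i : ι) :=
  le_iSup (fun i : s => Y (i : ι)) ⟨i, hi⟩

theorem cj_sup (g : G) (H K : Subgroup G) : cj g (H ⊔ K) = cj g H ⊔ cj g K := Subgroup.map_sup _ _ _

theorem cj_iSup {κ : Sort*} (g : G) (f : κ → Subgroup G) : cj g (⨆ k, f k) = ⨆ k, cj g (f k) := Subgroup.map_iSup _ _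

/-- `⟨Z^H⟩` is normalised by `H`. -/
theorem le_normalizer_iSup_cj (H Z : Subgroup G) :
    H ≤ normalizer ((⨆ y : H, cj (y : G) Z : Subgroup G) : Set G) := by
  intro x hx
  rw [mem_normalizer_iff_cj, cj_iSup]
  apply le_antisymm
  · refine iSup_le fun y => ?_
    rw [cj_cj]
    exact le_iSup (fun y : H => cj (y : G) Z) ⟨x * y, mul_mem hx y.2⟩
  · refine iSup_le fun y => ?_
    refine le_trans ?_ (le_iSup (fun y : H => cj x (cj (y : G) Z)) ⟨x⁻¹ * y, mul_mem (inv_mem hx) y.2⟩)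
    change cj (y : G) Z ≤ cj x (cj (x⁻¹ * (y : G)) Z)
    rw [cj_cj, mul_inv_cancel_left]

theorem iSup_cj_mono {H H' Z : Subgroup G} (h : H ≤ H') :
    (⨆ y : H, cj (y : G) Z) ≤ ⨆ y : H', cj (y : G) Z :=
  iSup_le fun y => le_iSup (fun y : H' => cj (y : G) Z) ⟨y, h y.2⟩

theorem Y_le_EE {s : Set ι} {i : ι} (hi : i ∈ s) : Y i ≤ normalizer (EE Y ZJ s : Set G) :=
  (Y_le_iSup hi).trans (le_normalizer_iSup_cj _ _)

theorem EE_mono {s t : Set ι} (h : s ⊆ t) : EE Y ZJ s ≤ EE Y ZJ t :=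
  iSup_cj_mono (iSup_le fun i => Y_le_iSup (h i.2))

theorem ZJ_le_EE (s : Set ι) : ZJ ≤ EE Y ZJ s := by
  have h : cj ((1 : (⨆ i : s, Y (i : ι) : Subgroup G)) : G) ZJ ≤ EE Y ZJ s :=
    le_iSup (fun y : (⨆ i : s, Y (i : ι) : Subgroup G) => cj (y : G) ZJ) 1
  rwa [OneMemClass.coe_one, cj_one] at h

section basic

variable (h : Dig D O ZJ Y N)
include h

theorem Dig.OY (i : ι) : O ≤ Y i := h.OD.trans (h.DY i)

theorem Dig.NE {s : Set ι} {i : ι} (hi : i ∈ s) : N i ≤ EE Y ZJ s :=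
  (h.NZ i).trans (iSup_cj_mono (Y_le_iSup hi))

theorem Dig.ab {s : Set ι} (hs : s ≠ Set.univ) (hn : s.Nonempty) : EE Y ZJ s ≤ centralizer (EE Y ZJ s : Set G) :=
  (ExactA.eab_iff.1 (h.el s hs hn).1).1

/-- the data of `EK3.Lever` -/
theorem Dig.dt {s : Set ι} (hs : s ≠ Set.univ) (hn : s.Nonempty) :
    Dt O (EE Y ZJ s) ZJ (fun i : s => Y (i : ι)) (fun i : s => N (i : ι)) where
  ab := h.ab hs hn
  OY := fun i => h.OY _
  YE := fun i => Y_le_EE i.2
  OZ := h.OZ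
  gen := le_rfl
  NE := fun i => h.NE i.2
  YN := fun i => h.YN _
  YQ := fun i => h.YQ _
  no := fun i F hF hFO => h.no _ F hF hFO

/-- `O` normalises `E s`. -/
theorem Dig.O_le {s : Set ι} (hn : s.Nonempty) : O ≤ normalizer (EE Y ZJ s : Set G) := by
  obtain ⟨i, hi⟩ := hn
  exact (h.OY i).trans (Y_le_EE hi)

variable [Finite G]

/-- (m) -/
theorem Dig.mov_mono {s t : Set ι} (hst : s ⊆ t) (ht : t ≠ Set.univ) {j : ι} (hj : j ∈ s)
    (hm : Mov O (EE Y ZJ t) (N j)) : Mov O (EE Y ZJ s) (N j) := by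
  obtain ⟨F, hFO, hFe, hF, hmv⟩ := hm
  have hNt : N j ≤ EE Y ZJ t := h.NE (hst hj)
  have hNs : N j ≤ EE Y ZJ s := h.NE hj
  have hno := h.no j F hFe hFO
  obtain ⟨e1, e2, e3⟩ := hF.relIndex_eq hNt hmv hno
  have hle : (centralizer (F : Set G)).relIndex (EE Y ZJ s) ≤ (centralizer (EE Y ZJ s : Set G)).relIndex F := by
    calc (centralizer (F : Set G)).relIndex (EE Y ZJ s) ≤ (centralizer (F : Set G)).relIndex (EE Y ZJ t) :=
          relIndex_le_of_le_right (EE_mono hst) index_ne_zero_of_finite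
      _ = (centralizer (N j : Set G)).relIndex F := by rw [e2, e3]
      _ ≤ (centralizer (EE Y ZJ s : Set G)).relIndex F :=
          relIndex_le_of_le_left (centralizer_le hNs) index_ne_zero_of_finite
  have hoff : Offd (EE Y ZJ s) F :=
    ⟨hFO.trans (h.O_le ⟨j, hj⟩), fun hc => hmv (hc.trans (centralizer_le hNs)), hle⟩
  obtain ⟨F₀, hF₀F, hF₀⟩ := hoff.exists_min
  refine ⟨F₀, hF₀F.trans hFO, ExactA.eab_mono hFe hF₀F, hF₀, fun hc => hF₀.mov ?_⟩
  -- `E s = N j C_{E s}(F)`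
  have h1 : EE Y ZJ s ≤ centralizer (F₀ : Set G) := by
    intro e he
    obtain ⟨v, hv, c, -, hcF, rfl⟩ := hF.exists_mul hNt hmv hno (h.ab ht ⟨j, hst hj⟩) (EE_mono hst he)
    exact mul_mem (Subgroup.le_centralizer_iff.1 hc hv) (centralizer_le hF₀F hcF)
  exact Subgroup.le_centralizer_iff.1 h1

/-- (c) -/
theorem Dig.le_normalizer {s : Set ι} (hs : s ≠ Set.univ) {j : ι} (hj : j ∈ s)
    (hm : Mov O (EE Y ZJ s) (N j)) {M : Subgroup G} (hM : M ≤ EE Y ZJ s) (hDM : D ≤ normalizer (M : Set G)) :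
    Y j ≤ normalizer ((M ⊔ N j : Subgroup G) : Set G) := by
  obtain ⟨F, hFO, hFe, hF, hmv⟩ := hm
  have hn : s.Nonempty := ⟨j, hj⟩
  set E := EE Y ZJ s with hE
  have hNE : N j ≤ E := h.NE hj
  have hYE : Y j ≤ normalizer (E : Set G) := Y_le_EE hj
  have hcN : ∀ {n g : G}, n ∈ N j → g ∈ Y j → g * n * g⁻¹ ∈ N j := fun hn hg =>
    (mem_normalizer_iff.1 (h.YN j hg) _).1 hn
  have hcE : ∀ {n g : G}, n ∈ E → g ∈ Y j → g * n * g⁻¹ ∈ E := fun hn hg =>
    (mem_normalizer_iff.1 (hYE hg) _).1 hn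
  -- the kernel on `E / N j`
  let K : Subgroup G :=
    { carrier := {g | g ∈ Y j ∧ ∀ e ∈ E, g * e * g⁻¹ * e⁻¹ ∈ N j}
      one_mem' := ⟨one_mem _, fun e _ => by simp⟩
      mul_mem' := by
        rintro a b ⟨ha, ha'⟩ ⟨hb, hb'⟩
        refine ⟨mul_mem ha hb, fun e he => ?_⟩
        have e1 : a * b * e * (a * b)⁻¹ * e⁻¹ = a * (b * e * b⁻¹ * e⁻¹) * a⁻¹ * (a * e * a⁻¹ * e⁻¹) := by group
        rw [e1]
        exact mul_mem (hcN (hb' e he) ha) (ha' e he)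
      inv_mem' := by
        rintro a ⟨ha, ha'⟩
        refine ⟨inv_mem ha, fun e he => ?_⟩
        have h1 := hcN (inv_mem (ha' e he)) (inv_mem ha)
        have e1 : a⁻¹ * e * a⁻¹⁻¹ * e⁻¹ = a⁻¹ * e * a * e⁻¹ := by group
        have e2 : a⁻¹ * (a * e * a⁻¹ * e⁻¹)⁻¹ * a⁻¹⁻¹ = a⁻¹ * e * a * e⁻¹ := by group
        rw [e1, ← e2]
        exact h1 }
  have hKY : K ≤ Y j := fun g hg => hg.1
  have hYK : Y j ≤ normalizer (K : Set G) := by
    intro y hy
    apply mem_normalizer_of_cj_le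
    intro x hx
    rw [mem_cj] at hx
    obtain ⟨h1, h2⟩ := hx
    have h3 : x ∈ Y j := by
      have := mul_mem (mul_mem hy h1) (inv_mem hy)
      have e : y * (y⁻¹ * x * y) * y⁻¹ = x := by group
      rwa [e] at this
    refine ⟨h3, fun e he => ?_⟩
    have h4 := hcN (h2 (y⁻¹ * e * y⁻¹⁻¹) (hcE he (inv_mem hy))) hy
    have e1 : y * (y⁻¹ * x * y * (y⁻¹ * e * y⁻¹⁻¹) * (y⁻¹ * x * y)⁻¹ * (y⁻¹ * e * y⁻¹⁻¹)⁻¹) * y⁻¹ =
        x * e * x⁻¹ * e⁻¹ := by group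
    rwa [e1] at h4
  have hFK : F ≤ K := by
    intro f hf
    refine ⟨h.OY j (hFO hf), fun e he => ?_⟩
    have h1 : ⁅e, f⁆ ∈ ⁅E, F⁆ := commutator_mem_commutator he hf
    rw [hF.commutator_eq hNE hmv (h.no j F hFe hFO) (h.ab hs hn)] at h1
    have h2 : ⁅N j, F⁆ ≤ N j := by
      rw [commutator_le]
      intro n hn' x hx
      have h3 := hcN (inv_mem hn') (h.OY j (hFO hx))
      rw [commutatorElement_def]
      have e : n * x * n⁻¹ * x⁻¹ = n * (x * n⁻¹ * x⁻¹) := by group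
      rw [e]
      exact mul_mem hn' h3
    have h3 := inv_mem (h2 h1)
    have e1 : ⁅e, f⁆⁻¹ = f * e * f⁻¹ * e⁻¹ := by rw [commutatorElement_def]; group
    rwa [e1] at h3
  have hYKD : Y j ≤ K ⊔ D := h.qp j K hKY hYK fun hc => hmv ((le_inf hFK hFO).trans hc)
  refine hYKD.trans (sup_le ?_ ?_)
  · intro k hk
    apply mem_normalizer_of_cj_le
    rw [cj_sup]
    refine sup_le ?_ ?_
    · intro x hx
      have hx' : k⁻¹ * x * k ∈ M := mem_cj.1 hx
      have h1 := hk.2 _ (hM hx')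
      have e1 : x = (k * (k⁻¹ * x * k) * k⁻¹ * (k⁻¹ * x * k)⁻¹) * (k⁻¹ * x * k) := by group
      rw [e1]
      exact mul_mem (le_sup_right (a := M) h1) (le_sup_left (b := N j) hx')
    · exact (cj_eq_of_mem_normalizer (h.YN j hk.1)).le.trans le_sup_right
  · intro d hd
    apply mem_normalizer_of_cj_le
    rw [cj_sup]
    exact sup_le ((cj_eq_of_mem_normalizer (hDM hd)).le.trans le_sup_left)
      ((cj_eq_of_mem_normalizer (h.YN j (h.DY j hd))).le.trans le_sup_right)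

/-- `(n)`, `(b)` for a single set, if some member of `AA(O)` moves `E s`. -/
theorem Dig.exists_mov_of {s : Set ι} (hs : s ≠ Set.univ) (hn : s.Nonempty)
    (hA : ¬ jj O ≤ centralizer (EE Y ZJ s : Set G)) : ∃ j ∈ s, Mov O (EE Y ZJ s) (N j) := by
  rw [jj_eq, sSup_le_iff] at hA
  push Not at hA
  obtain ⟨A, hA, hmv⟩ := hA
  have hoff : Offd (EE Y ZJ s) A :=
    offd_of_AA (h.el s hs hn).1 (h.el s hs hn).2 hA (hA.2.1.trans (h.O_le hn)) hmv
  obtain ⟨F, h1, h2, h3, i, h4⟩ := (h.dt hs hn).exists_mov hA.2.1 hA.1 hoff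
  exact ⟨i, i.2, F, h1, h2, h3, h4⟩

/-- `jj O` is normalised by `Y i` if it centralises `N i`. -/
theorem Dig.le_norm_jj {i : ι} (hc : jj O ≤ centralizer (N i : Set G)) : Y i ≤ normalizer (jj O : Set G) := by
  have h1 : jj (O ⊓ centralizer (N i : Set G)) = jj O := jj_eq_of_jj_le (le_inf (ChoiceBase.jj_le O) hc) inf_le_left
  intro y hy
  rw [← h1, mem_normalizer_iff_cj, ← jj_cj, cj_eq_of_mem_normalizer (h.YQ i hy)]

theorem Dig.jj_ne {s : Set ι} (hs : s ≠ Set.univ) (hn : s.Nonempty) : jj O ≠ ⊥ := by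
  intro h0
  obtain ⟨A, hA⟩ := AA_nonempty O
  have h1 : A = ⊥ := le_bot_iff.1 (h0 ▸ le_jj hA)
  have h2 := hA.2.2 _ (h.el s hs hn).1 (h.el s hs hn).2
  rw [h1, Subgroup.card_bot] at h2
  exact h.ne (le_bot_iff.1 ((ZJ_le_EE (Y := Y) s).trans (Subgroup.eq_bot_of_card_le _ h2).le))

end basic

section main

variable [Finite G] (h : Dig D O ZJ Y N) (tr : ∀ i j : ι, ∃ π : Equiv.Perm ι, Sym O ZJ Y N π ∧ π i = j)
include h tr

theorem Dig.moves {s : Set ι} (hs : s ≠ Set.univ) (hn : s.Nonempty) :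
    ¬ jj O ≤ centralizer (EE Y ZJ s : Set G) := by
  intro hc
  obtain ⟨i, hi⟩ := hn
  have h1 : Y i ≤ normalizer (jj O : Set G) := h.le_norm_jj (hc.trans (centralizer_le (h.NE hi)))
  refine h.jj_ne hs ⟨i, hi⟩ (h.nl _ (ChoiceBase.jj_le O) fun j => ?_)
  obtain ⟨π, ⟨g, hgO, -, hg⟩, hπ⟩ := tr i j
  have h2 := cj_mono g h1
  rw [(hg i).1, hπ, cj_normalizer, ← jj_cj, hgO] at h2
  exact h2

theorem Dig.exists_mov {s : Set ι} (hs : s ≠ Set.univ) (hn : s.Nonempty) : ∃ j ∈ s, Mov O (EE Y ZJ s) (N j) :=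
  h.exists_mov_of hs hn (h.moves tr hs hn)

end main

/-- The digraph: `i → j` iff no minimal offender of `E {i, j}` moves `N j`. -/
def Arr (O ZJ : Subgroup G) (Y N : ι → Subgroup G) (i j : ι) : Prop := ¬ Mov O (EE Y ZJ {i, j}) (N j)

/-- conjugation -/
theorem Mov.cj {O E M : Subgroup G} (g : G) (h : Mov O E M) : Mov (cj g O) (cj g E) (cj g M) := by
  obtain ⟨F, h1, h2, h3, h4⟩ := h
  refine ⟨ChoiceBase.cj g F, cj_mono g h1, isElementaryAbelian_cj g h2, minOff_cj h3 g, fun hc => h4 ?_⟩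
  rw [← cj_centralizer] at hc
  have := cj_mono g⁻¹ hc
  rwa [cj_inv_cj, cj_inv_cj] at this

theorem cj_EE {g : G} (hZ : cj g ZJ = ZJ) {π : Equiv.Perm ι} (hY : ∀ i, cj g (Y i) = Y (π i)) (s : Set ι) :
    cj g (EE Y ZJ s) = EE Y ZJ (π '' s) := by
  have h1 : cj g (⨆ i : s, Y (i : ι)) = ⨆ i : (π '' s), Y (i : ι) := by
    rw [cj_iSup]
    apply le_antisymm
    · refine iSup_le fun i => ?_
      rw [hY]
      exact le_iSup (fun i : (π '' s) => Y (i : ι)) ⟨π i, Set.mem_image_of_mem _ i.2⟩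
    · refine iSup_le fun i => ?_
      obtain ⟨_, j, hj, rfl⟩ := i
      rw [← hY]
      exact le_iSup (fun i : s => cj g (Y (i : ι))) ⟨j, hj⟩
  rw [EE, cj_iSup]
  apply le_antisymm
  · refine iSup_le fun y => ?_
    have e : cj g (cj (y : G) ZJ) = cj (g * y * g⁻¹) ZJ := by
      conv_rhs => rw [← hZ]
      rw [cj_cj, cj_cj]
      congr 1
      group
    rw [e]
    refine le_iSup (fun y : (⨆ i : (π '' s), Y (i : ι) : Subgroup G) => cj (y : G) ZJ) ⟨g * y * g⁻¹, ?_⟩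
    rw [← h1, mem_cj]
    have e2 : g⁻¹ * (g * (y : G) * g⁻¹) * g = y := by group
    rw [e2]
    exact y.2
  · refine iSup_le fun y => ?_
    obtain ⟨y, hy⟩ := y
    rw [← h1, mem_cj] at hy
    refine le_trans ?_ (le_iSup (fun y : (⨆ i : s, Y (i : ι) : Subgroup G) => cj g (cj (y : G) ZJ)) ⟨g⁻¹ * y * g, hy⟩)
    change cj y ZJ ≤ cj g (cj (g⁻¹ * y * g) ZJ)
    have e0 : g * (g⁻¹ * y * g) = y * g := by group
    have e1 : cj g (cj (g⁻¹ * y * g) ZJ) = cj y ZJ := by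
      rw [cj_cj, e0, ← cj_cj, hZ]
    exact e1.ge

theorem Sym.mov {π : Equiv.Perm ι} (h : Sym O ZJ Y N π) {s : Set ι} {j : ι} (hm : Mov O (EE Y ZJ s) (N j)) :
    Mov O (EE Y ZJ (π '' s)) (N (π j)) := by
  obtain ⟨g, hO, hZ, hg⟩ := h
  have h1 := hm.cj g
  rwa [hO, cj_EE hZ (fun i => (hg i).1), (hg j).2] at h1

theorem Sym.inv {π : Equiv.Perm ι} (h : Sym O ZJ Y N π) : Sym O ZJ Y N π⁻¹ := by
  obtain ⟨g, hO, hZ, hg⟩ := h
  refine ⟨g⁻¹, ?_, ?_, fun i => ⟨?_, ?_⟩⟩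
  · conv_lhs => rw [← hO]
    rw [cj_inv_cj]
  · conv_lhs => rw [← hZ]
    rw [cj_inv_cj]
  · have := (hg (π⁻¹ i)).1
    rw [show π (π⁻¹ i) = i from π.apply_symm_apply i] at this
    rw [← this, cj_inv_cj]
  · have := (hg (π⁻¹ i)).2
    rw [show π (π⁻¹ i) = i from π.apply_symm_apply i] at this
    rw [← this, cj_inv_cj]

theorem Sym.arr {π : Equiv.Perm ι} (h : Sym O ZJ Y N π) {i j : ι} (ha : Arr O ZJ Y N i j) :
    Arr O ZJ Y N (π i) (π j) := by
  intro hm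
  apply ha
  have h1 := h.inv.mov hm
  rw [Set.image_pair, show π⁻¹ (π i) = i from π.symm_apply_apply i,
    show π⁻¹ (π j) = j from π.symm_apply_apply j] at h1
  exact h1

section final

variable [Finite G] [Finite ι] (h : Dig D O ZJ Y N) (h3 : 3 ≤ Nat.card ι)
  (tr : ∀ i j : ι, ∃ π : Equiv.Perm ι, Sym O ZJ Y N π ∧ π i = j)
include h h3 tr

theorem pair_ne_univ (i j : ι) : ({i, j} : Set ι) ≠ Set.univ := by
  intro he
  have h1 : Set.ncard ({i, j} : Set ι) ≤ 2 := Set.ncard_insert_le i {j} |>.trans (by rw [Set.ncard_singleton])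
  rw [he, Set.ncard_univ] at h1
  omega

/-- (*) -/
theorem Dig.free : Free (Arr O ZJ Y N) := by
  intro s hs hn
  obtain ⟨j, hj, hm⟩ := h.exists_mov tr hs hn
  refine ⟨j, hj, fun i hi _ ha => ha ?_⟩
  refine h.mov_mono (fun x hx => ?_) hs (Set.mem_insert_of_mem _ rfl) hm
  rcases hx with rfl | hx
  · exact hi
  · rw [Set.mem_singleton_iff.1 hx]
    exact hj

/-- (3) -/
theorem Dig.exists_arr : ∃ i j : ι, i ≠ j ∧ Arr O ZJ Y N i j := by
  by_contra hcon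
  push Not at hcon
  have hmov : ∀ i j : ι, i ≠ j → Mov O (EE Y ZJ {i, j}) (N j) := fun i j hij => not_not.1 (hcon i j hij)
  have hN : (⨆ i, N i) = ⊥ := by
    refine h.nl _ (iSup_le fun i => ?_) fun j => ?_
    · have hp := pair_ne_univ h h3 tr i i
      exact (h.NE (Set.mem_insert i {i})).trans (h.el _ hp ⟨i, Set.mem_insert i {i}⟩).2
    · intro y hy
      apply mem_normalizer_of_cj_le
      rw [cj_iSup]
      refine iSup_le fun i => ?_
      rcases eq_or_ne i j with rfl | hij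
      · rw [cj_eq_of_mem_normalizer (h.YN i hy)]
        exact le_iSup N i
      · have h1 : Y j ≤ normalizer ((N i ⊔ N j : Subgroup G) : Set G) :=
          h.le_normalizer (pair_ne_univ h h3 tr i j) (Set.mem_insert_of_mem _ rfl) (hmov i j hij)
            (h.NE (Set.mem_insert i {j})) ((h.DY i).trans (h.YN i))
        calc cj y (N i) ≤ cj y (N i ⊔ N j) := cj_mono y le_sup_left
          _ = N i ⊔ N j := cj_eq_of_mem_normalizer (h1 hy)
          _ ≤ ⨆ i, N i := sup_le (le_iSup N i) (le_iSup N j)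
  have hne : Nontrivial ι := by
    rw [← Finite.one_lt_card_iff_nontrivial]
    omega
  obtain ⟨i, j, hij⟩ := exists_pair_ne ι
  obtain ⟨F, -, -, -, hF⟩ := hmov i j hij
  have h1 : N j = ⊥ := le_bot_iff.1 ((le_iSup N j).trans hN.le)
  apply hF
  rw [h1]
  intro f _
  rw [mem_centralizer_iff]
  intro x hx
  rw [Subgroup.coe_bot, Set.mem_singleton_iff] at hx
  rw [hx, one_mul, mul_one]

/-- **THEOREM DIG.** A symmetry which fixes a block fixes all blocks. -/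
theorem Dig.eq_one_of_fix {π : Equiv.Perm ι} (hπ : Sym O ZJ Y N π) {i : ι} (hi : π i = i) : π = 1 := by
  refine (h.free h3 tr).eq_one_of_fix (fun j => ?_) (fun i j ha => hπ.arr ha) hi
  obtain ⟨i₀, j₀, hne, ha⟩ := h.exists_arr h3 tr
  obtain ⟨ρ, hρ, e⟩ := tr j₀ j
  refine ⟨ρ i₀, fun he => hne ?_, ?_⟩
  · apply ρ.injective
    rw [he, e]
  · rw [← e]
    exact hρ.arr ha

end final

end Cfsg.Agent.Omega.Dig
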